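import Mathlib

/-! helper7: a torsion-free algebra over a normal Noetherian local domain of dimension at least two
which is finite over every punctured basic open is finite (lattice argument with algebraic Hartogs). -/

set_option linter.style.haveILetI false
set_option linter.unusedVariables false
set_option linter.unusedSectionVars false
set_option autoImplicit false
set_option backward.isDefEq.respectTransparency.types false
set_option synthInstance.maxHeartbeats 400000
set_option maxHeartbeats 1600000

open TensorProduct IsLocalRing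

namespace Groth.Agent.Helper7.PunctFin

universe u

section H

variable (A : Type u) [CommRing A] [IsDomain A] [IsNoetherianRing A] [IsLocalRing A]

theorem maximalIdeal_ne_span_singleton (hdim : (2 : WithBot ℕ∞) ≤ ringKrullDim A) (a : A) :
    maximalIdeal A ≠ Ideal.span {a} := by
  intro h
  haveI : (Ideal.span {a}).IsPrincipal := ⟨⟨a, rfl⟩⟩
  have hp : maximalIdeal A ∈ (Ideal.span {a}).minimalPrimes := by
    rw [← h, Ideal.minimalPrimes_eq_subsingleton_self]
    exact Set.mem_singleton _
  have h1 := Ideal.height_le_one_of_isPrincipal_of_mem_minimalPrimes (Ideal.span {a})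
    (maximalIdeal A) hp
  have h2 := IsLocalRing.maximalIdeal_height_eq_ringKrullDim (R := A)
  rw [← h2] at hdim
  have h3 : ((2 : ℕ∞) : WithBot ℕ∞) ≤ ((maximalIdeal A).height : WithBot ℕ∞) := hdim
  have h4 : (2 : ℕ∞) ≤ (maximalIdeal A).height := WithBot.coe_le_coe.1 h3
  have h5 : (2 : ℕ∞) ≤ 1 := le_trans h4 h1
  exact absurd h5 (by norm_num)

theorem exists_mem_maximalIdeal_ne_zero (hdim : (2 : WithBot ℕ∞) ≤ ringKrullDim A) :
    ∃ c ∈ maximalIdeal A, c ≠ 0 := by
  by_contra hne
  apply maximalIdeal_ne_span_singleton A hdim 0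
  rw [Ideal.span_singleton_zero, eq_bot_iff]
  intro a ha
  by_contra h0
  exact hne ⟨a, ha, fun h => h0 ((Submodule.mem_bot A).mpr h)⟩

variable [IsIntegrallyClosed A] (K : Type u) [Field K] [Algebra A K] [IsFractionRing A K]

theorem isInteger_of_maximalIdeal_smul (hdim : (2 : WithBot ℕ∞) ≤ ringKrullDim A) (x : K)
    (hx : ∀ a ∈ maximalIdeal A, IsLocalization.IsInteger A (a • x)) :
    IsLocalization.IsInteger A x := by
  have hinj : Function.Injective (algebraMap A K) := IsFractionRing.injective A K
  by_cases hcase : ∃ a ∈ maximalIdeal A, ∃ u : A, IsUnit u ∧ algebraMap A K u = a • x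
  · exfalso
    obtain ⟨a, ha, u, hunit, hu⟩ := hcase
    apply maximalIdeal_ne_span_singleton A hdim a
    apply le_antisymm
    · intro a' ha'
      obtain ⟨w, hw⟩ := hx a' ha'
      have hmul : a' * u = a * w := by
        apply hinj
        rw [map_mul, map_mul, hu, hw, Algebra.smul_def, Algebra.smul_def]
        ring
      obtain ⟨u', hu'⟩ := hunit.exists_right_inv
      rw [Ideal.mem_span_singleton']
      refine ⟨w * u', ?_⟩
      calc w * u' * a = (a * w) * u' := by ring
        _ = (a' * u) * u' := by rw [hmul]
        _ = a' * (u * u') := by ring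
        _ = a' := by rw [hu', mul_one]
    · rw [Ideal.span_le]
      exact Set.singleton_subset_iff.mpr ha
  · obtain ⟨c0, hc0m, hc0⟩ := exists_mem_maximalIdeal_ne_zero A hdim
    let N : Submodule A K := Submodule.map (Algebra.linearMap A K) (maximalIdeal A)
    have hN : N ≠ ⊥ := by
      intro h
      have h1 : Algebra.linearMap A K c0 ∈ N := Submodule.mem_map_of_mem hc0m
      rw [h, Submodule.mem_bot, Algebra.linearMap_apply] at h1
      exact hc0 (hinj (h1.trans (map_zero _).symm))
    have hN' : N.FG := (IsNoetherian.noetherian (maximalIdeal A)).map _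
    have hint : IsIntegral A x := by
      refine isIntegral_of_smul_mem_submodule N hN hN' x ?_
      rintro _ ⟨a, ha, rfl⟩
      obtain ⟨u, hu⟩ := hx a ha
      have hum : u ∈ maximalIdeal A := by
        rw [IsLocalRing.mem_maximalIdeal]
        intro hunit
        exact hcase ⟨a, ha, u, hunit, hu⟩
      refine ⟨u, hum, ?_⟩
      rw [Algebra.linearMap_apply, Algebra.linearMap_apply, hu, Algebra.smul_def, smul_eq_mul,
        mul_comm]
    obtain ⟨y, hy⟩ := IsIntegrallyClosed.isIntegral_iff.mp hint
    exact ⟨y, hy⟩

theorem isInteger_of_pow_smul (hdim : (2 : WithBot ℕ∞) ≤ ringKrullDim A) (T : Set A)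
    (hT : Ideal.span T = maximalIdeal A) (x : K)
    (hx : ∀ c ∈ T, ∃ k : ℕ, IsLocalization.IsInteger A (c ^ k • x)) :
    IsLocalization.IsInteger A x := by
  let J : Ideal A :=
    { carrier := {a | IsLocalization.IsInteger A (a • x)}
      add_mem' := fun {a b} ha hb => by
        show IsLocalization.IsInteger A ((a + b) • x)
        rw [add_smul]
        exact IsLocalization.isInteger_add ha hb
      zero_mem' := by
        show IsLocalization.IsInteger A ((0 : A) • x)
        rw [zero_smul]
        exact IsLocalization.isInteger_zero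
      smul_mem' := fun c {a} ha => by
        show IsLocalization.IsInteger A ((c • a) • x)
        rw [smul_eq_mul, mul_smul]
        exact IsLocalization.isInteger_smul ha }
  have hJ : maximalIdeal A ≤ J.radical := by
    rw [← hT, Ideal.span_le]
    intro c hc
    obtain ⟨k, hk⟩ := hx c hc
    exact Ideal.mem_radical_iff.mpr ⟨k, hk⟩
  obtain ⟨n, hn⟩ := Ideal.exists_pow_le_of_le_radical_of_fg hJ (IsNoetherian.noetherian _)
  have key : ∀ n : ℕ, ∀ y : K,
      (∀ a ∈ maximalIdeal A ^ n, IsLocalization.IsInteger A (a • y)) →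
        IsLocalization.IsInteger A y := by
    intro n
    induction n with
    | zero =>
      intro y hy
      have h1 : (1 : A) ∈ maximalIdeal A ^ 0 := by
        rw [pow_zero, Ideal.one_eq_top]
        exact Submodule.mem_top
      have h2 := hy 1 h1
      rwa [one_smul] at h2
    | succ n ih =>
      intro y hy
      apply ih
      intro a ha
      apply isInteger_of_maximalIdeal_smul A K hdim
      intro a' ha'
      rw [smul_smul]
      apply hy
      rw [pow_succ']
      exact Ideal.mul_mem_mul ha' ha
  exact key n x (fun a ha => hn ha)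

end H

section Loc

variable (A B : Type u) [CommRing A] [CommRing B] [Algebra A B]

theorem exists_finset_span (c : A)
    [Module.Finite (Localization.Away c) (Localization.Away c ⊗[A] B)] :
    ∃ S : Finset B, ∀ b : B, ∃ k : ℕ, c ^ k • b ∈ Submodule.span A (S : Set B) := by
  classical
  obtain ⟨G, hG⟩ := (Module.Finite.fg_top :
    (⊤ : Submodule (Localization.Away c) (Localization.Away c ⊗[A] B)).FG)
  let ℓ : B →ₗ[A] Localization.Away c ⊗[A] B := TensorProduct.mk A (Localization.Away c) B 1
  haveI hloc : IsLocalizedModule (Submonoid.powers c) ℓ :=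
    (inferInstance : IsLocalizedModule (Submonoid.powers c)
      (TensorProduct.mk A (Localization.Away c) B 1))
  refine ⟨IsLocalizedModule.finsetIntegerMultiple (Submonoid.powers c) ℓ G, fun b => ?_⟩
  have h1 : ℓ b ∈ Submodule.span (Localization.Away c)
      ((G : Set (Localization.Away c ⊗[A] B))) := by
    rw [hG]
    exact Submodule.mem_top
  obtain ⟨t, ht⟩ := multiple_mem_span_of_mem_localization_span (Submonoid.powers c)
    (Localization.Away c) (G : Set (Localization.Away c ⊗[A] B)) (ℓ b) h1
  have h2 : ℓ (t • b) ∈ Submodule.span A (G : Set (Localization.Away c ⊗[A] B)) := by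
    rw [Submonoid.smul_def, map_smul, ← Submonoid.smul_def]
    exact ht
  obtain ⟨m, hm⟩ := IsLocalizedModule.smul_mem_finsetIntegerMultiple_span (Submonoid.powers c) ℓ
    (t • b) G h2
  obtain ⟨k1, hk1⟩ := (Submonoid.mem_powers_iff _ _).mp t.2
  obtain ⟨k2, hk2⟩ := (Submonoid.mem_powers_iff _ _).mp m.2
  refine ⟨k2 + k1, ?_⟩
  have heq : c ^ (k2 + k1) • b = m • (t • b) := by
    rw [Submonoid.smul_def, Submonoid.smul_def, ← hk1, ← hk2, smul_smul, pow_add]
  rw [heq]
  exact hm

theorem torsion_aux [IsDomain A] (c : A)
    [Module.Flat (Localization.Away c) (Localization.Away c ⊗[A] B)] (a : A) (ha : a ≠ 0) (b : B)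
    (hab : a • b = 0) : ∃ k : ℕ, c ^ k • b = 0 := by
  let ℓ : B →ₗ[A] Localization.Away c ⊗[A] B := TensorProduct.mk A (Localization.Away c) B 1
  haveI hloc : IsLocalizedModule (Submonoid.powers c) ℓ :=
    (inferInstance : IsLocalizedModule (Submonoid.powers c)
      (TensorProduct.mk A (Localization.Away c) B 1))
  haveI : Module.Flat A (Localization.Away c) := IsLocalization.flat _ (Submonoid.powers c)
  haveI : Module.Flat A (Localization.Away c ⊗[A] B) :=
    Module.Flat.trans A (Localization.Away c) _
  have hreg : IsSMulRegular (Localization.Away c ⊗[A] B) a :=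
    Module.Flat.isSMulRegular_of_isRegular (IsRegular.of_ne_zero ha)
  have h0 : ℓ b = 0 := by
    apply hreg
    show a • ℓ b = a • (0 : Localization.Away c ⊗[A] B)
    rw [← map_smul, hab, map_zero, smul_zero]
  obtain ⟨s, hs⟩ := (IsLocalizedModule.eq_zero_iff (Submonoid.powers c) ℓ).mp h0
  obtain ⟨k, hk⟩ := (Submonoid.mem_powers_iff _ _).mp s.2
  refine ⟨k, ?_⟩
  rw [hk]
  exact hs

theorem finite_fractionRing_tensor [IsDomain A] (c : A) (hc : c ≠ 0)
    [Module.Finite (Localization.Away c) (Localization.Away c ⊗[A] B)] :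
    Module.Finite (FractionRing A) (FractionRing A ⊗[A] B) := by
  have hu : IsUnit (algebraMap A (FractionRing A) c) :=
    IsUnit.mk0 _ ((map_ne_zero_iff _ (IsFractionRing.injective A (FractionRing A))).mpr hc)
  letI : Algebra (Localization.Away c) (FractionRing A) :=
    (IsLocalization.Away.lift (S := Localization.Away c) c hu).toAlgebra
  haveI : IsScalarTower A (Localization.Away c) (FractionRing A) :=
    IsScalarTower.of_algebraMap_eq (fun a => (IsLocalization.Away.lift_eq c hu a).symm)
  exact Module.Finite.equiv (TensorProduct.AlgebraTensorModule.cancelBaseChange A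
    (Localization.Away c) (FractionRing A) (FractionRing A) B)

end Loc

section Main

variable (A B : Type u) [CommRing A] [IsDomain A] [IsNoetherianRing A] [IsLocalRing A]
  [IsIntegrallyClosed A] [CommRing B] [Algebra A B]

theorem finite_of_locally (hdim : (2 : WithBot ℕ∞) ≤ ringKrullDim A)
    (hsep : ∀ b : B, (∀ c ∈ maximalIdeal A, ∃ k : ℕ, c ^ k • b = 0) → b = 0)
    (hfin : ∀ c ∈ maximalIdeal A,
      Module.Finite (Localization.Away c) (Localization.Away c ⊗[A] B))
    (hflat : ∀ c ∈ maximalIdeal A,
      Module.Flat (Localization.Away c) (Localization.Away c ⊗[A] B)) :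
    Module.Finite A B := by
  classical
  have hinjK : Function.Injective (algebraMap A (FractionRing A)) :=
    IsFractionRing.injective A (FractionRing A)
  have htf : ∀ (a : A) (b : B), a ≠ 0 → a • b = 0 → b = 0 := by
    intro a b ha hab
    apply hsep
    intro c hc
    haveI := hflat c hc
    exact torsion_aux A B c a ha b hab
  obtain ⟨c0, hc0m, hc0⟩ := exists_mem_maximalIdeal_ne_zero A hdim
  haveI := hfin c0 hc0m
  haveI hKfin : Module.Finite (FractionRing A) (FractionRing A ⊗[A] B) :=
    finite_fractionRing_tensor A B c0 hc0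
  obtain ⟨n, hn⟩ : ∃ n : ℕ, n = Module.finrank (FractionRing A) (FractionRing A ⊗[A] B) :=
    ⟨_, rfl⟩
  have bas := Module.finBasisOfFinrankEq (FractionRing A) (FractionRing A ⊗[A] B) hn.symm
  let ℓ : B →ₗ[A] FractionRing A ⊗[A] B := TensorProduct.mk A (FractionRing A) B 1
  haveI hloc : IsLocalizedModule (nonZeroDivisors A) ℓ :=
    (inferInstance : IsLocalizedModule (nonZeroDivisors A)
      (TensorProduct.mk A (FractionRing A) B 1))
  have hℓ : Function.Injective ℓ := by
    rw [← LinearMap.ker_eq_bot, LinearMap.ker_eq_bot']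
    intro b hb
    obtain ⟨s, hs⟩ := (IsLocalizedModule.eq_zero_iff (nonZeroDivisors A) ℓ).mp hb
    exact htf s.1 b (nonZeroDivisors.ne_zero s.2) hs
  let Φ : B →ₗ[A] (Fin n → FractionRing A) :=
    (bas.equivFun.toLinearMap.restrictScalars A).comp ℓ
  have hΦ : Function.Injective Φ := by
    intro b b' h
    have h' : bas.equivFun (ℓ b) = bas.equivFun (ℓ b') := h
    exact hℓ (bas.equivFun.injective h')
  obtain ⟨T, hT⟩ := (IsNoetherian.noetherian (maximalIdeal A) : (maximalIdeal A).FG)
  have hTm : ∀ c ∈ T, c ∈ maximalIdeal A := by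
    intro c hc
    rw [← hT]
    exact Ideal.subset_span hc
  have hS : ∀ c : A, ∃ S : Finset B, c ∈ T →
      ∀ b : B, ∃ k : ℕ, c ^ k • b ∈ Submodule.span A (S : Set B) := by
    intro c
    by_cases hc : c ∈ T
    · haveI := hfin c (hTm c hc)
      obtain ⟨S, hS⟩ := exists_finset_span A B c
      exact ⟨S, fun _ => hS⟩
    · exact ⟨∅, fun h => absurd h hc⟩
  choose Sc hSc using hS
  let S : Finset B := T.biUnion Sc
  obtain ⟨d, hd⟩ := IsLocalization.exist_integer_multiples (nonZeroDivisors A)
    (S ×ˢ (Finset.univ : Finset (Fin n))) (fun p : B × Fin n => Φ p.1 p.2)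
  have hdS : ∀ b ∈ Submodule.span A (S : Set B), ∀ j,
      IsLocalization.IsInteger A ((d : A) • Φ b j) := by
    intro b hb j
    induction hb using Submodule.span_induction with
    | mem s hs => exact hd (s, j) (Finset.mem_product.mpr ⟨hs, Finset.mem_univ _⟩)
    | zero =>
      rw [map_zero, Pi.zero_apply, smul_zero]
      exact IsLocalization.isInteger_zero
    | add s t _ _ hs ht =>
      rw [map_add, Pi.add_apply, smul_add]
      exact IsLocalization.isInteger_add hs ht
    | smul a s _ hs =>
      rw [map_smul, Pi.smul_apply, smul_comm]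
      exact IsLocalization.isInteger_smul hs
  have hall : ∀ b j, IsLocalization.IsInteger A ((d : A) • Φ b j) := by
    intro b j
    apply isInteger_of_pow_smul A (FractionRing A) hdim (T : Set A) hT
    intro c hc
    obtain ⟨k, hk⟩ := hSc c hc b
    refine ⟨k, ?_⟩
    have hsub : (Sc c : Set B) ⊆ (S : Set B) := by
      intro s hs
      exact Finset.mem_biUnion.mpr ⟨c, hc, hs⟩
    have hk' : c ^ k • b ∈ Submodule.span A (S : Set B) := Submodule.span_mono hsub hk
    have h3 := hdS _ hk' j
    rwa [map_smul, Pi.smul_apply, smul_comm] at h3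
  let ι : (Fin n → A) →ₗ[A] (Fin n → FractionRing A) :=
    (Algebra.linearMap A (FractionRing A)).compLeft (Fin n)
  let Ψ : B →ₗ[A] (Fin n → FractionRing A) := (d : A) • Φ
  have hΨmem : ∀ b, Ψ b ∈ LinearMap.range ι := by
    intro b
    have h : ∀ j, ∃ a : A, algebraMap A (FractionRing A) a = (d : A) • Φ b j := fun j => hall b j
    choose g hg using h
    exact ⟨g, funext fun j => hg j⟩
  have hΨinj : Function.Injective (Ψ.codRestrict (LinearMap.range ι) hΨmem) := by
    intro b b' h
    have h1 : Ψ b = Ψ b' := congrArg Subtype.val h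
    apply hΦ
    funext j
    have h2 : (d : A) • Φ b j = (d : A) • Φ b' j := congrFun h1 j
    rw [Algebra.smul_def, Algebra.smul_def] at h2
    exact mul_left_cancel₀
      ((map_ne_zero_iff _ hinjK).mpr (nonZeroDivisors.ne_zero d.2)) h2
  haveI : IsNoetherian A (LinearMap.range ι) := isNoetherian_of_isNoetherianRing_of_finite A _
  exact Module.Finite.of_injective _ hΨinj

end Main

end Groth.Agent.Helper7.PunctFin
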