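import Mathlib
import Groth.Prelude.Def_FEt
import Groth.Agent.Lib.Helper7.PunctFin.Alg
import Groth.Agent.Lib.Helper7.FEtAff.Dict
import Groth.Agent.Lib.Helper4.FEtHartogs2
import Groth.Agent.Lib.Helper4.RelHartogs1
import Groth.Agent.Lib.Lead.FlatHart1
import Groth.Agent.Lib.Helper9.FE.SchSh

/-! helper7: finite etale covers of the punctured spectrum of a normal Noetherian local domain of
dimension at least two: finiteness of global sections and the extension criterion. -/

set_option linter.style.haveILetI false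
set_option linter.unusedVariables false
set_option linter.unusedSectionVars false
set_option autoImplicit false
set_option backward.isDefEq.respectTransparency.types false
set_option synthInstance.maxHeartbeats 400000
set_option maxHeartbeats 1600000

open CategoryTheory CategoryTheory.Limits AlgebraicGeometry TensorProduct IsLocalRing

namespace Groth.Agent.Helper7.PunctFin

universe u

section Geo

variable (A : Type u) [CommRing A] [IsLocalRing A]

/-- the structure map on global sections -/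
noncomputable def rho (V : FEt.Cat (FEt.puncturedSpec A : Scheme.{u})) : A →+* Γ(V.left, ⊤) :=
  ((V.hom ≫ (FEt.puncturedSpec A).ι).appTop).hom.comp
    (Scheme.ΓSpecIso (CommRingCat.of A)).inv.hom

theorem specMap_rho (V : FEt.Cat (FEt.puncturedSpec A : Scheme.{u})) :
    Spec.map ((Scheme.ΓSpecIso (CommRingCat.of A)).inv ≫
      (V.hom ≫ (FEt.puncturedSpec A).ι).appTop) =
    Spec.map (CommRingCat.ofHom (rho A V)) := rfl

theorem sections_sep (V : FEt.Cat (FEt.puncturedSpec A : Scheme.{u})) (b : Γ(V.left, ⊤))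
    (h : ∀ c ∈ maximalIdeal A, ∃ k : ℕ, (rho A V c) ^ k * b = 0) : b = 0 := by
  obtain ⟨g, hg⟩ : ∃ g : V.left ⟶ Spec (CommRingCat.of A),
      g = V.hom ≫ (FEt.puncturedSpec A).ι := ⟨_, rfl⟩
  have hrho : ∀ c : A, rho A V c = g.appTop ((Scheme.ΓSpecIso (CommRingCat.of A)).inv c) := by
    intro c
    rw [hg]
    rfl
  apply H9FE.sec_sep V.left ⊤ b 0
  intro z _
  have hz : g z ∈ FEt.puncturedSpec A := by
    have h1 : g z ∈ Set.range (FEt.puncturedSpec A).ι := by
      rw [hg]
      exact ⟨V.hom z, (Scheme.Hom.comp_apply _ _ _).symm⟩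
    rw [Scheme.Opens.range_ι] at h1
    exact h1
  obtain ⟨p, hp⟩ : ∃ p : PrimeSpectrum A, p = g z := ⟨_, rfl⟩
  obtain ⟨c, hcm, hcz⟩ : ∃ c ∈ maximalIdeal A, c ∉ p.asIdeal := by
    by_contra hcon
    have hcon' : ∀ c ∈ maximalIdeal A, c ∈ p.asIdeal := by
      intro c hc
      by_contra hcp
      exact hcon ⟨c, hc, hcp⟩
    have hpe : p = IsLocalRing.closedPoint A := by
      apply PrimeSpectrum.ext
      exact le_antisymm (IsLocalRing.le_maximalIdeal p.isPrime.ne_top) hcon'
    rw [← hp] at hz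
    exact hz hpe
  obtain ⟨k, hk⟩ := h c hcm
  have hbo : z ∈ V.left.basicOpen (rho A V c) := by
    have h1 : g ⁻¹ᵁ ((Spec (CommRingCat.of A)).basicOpen
        ((Scheme.ΓSpecIso (CommRingCat.of A)).inv c)) =
        V.left.basicOpen (g.appTop ((Scheme.ΓSpecIso (CommRingCat.of A)).inv c)) :=
      Scheme.preimage_basicOpen_top g _
    rw [basicOpen_eq_of_affine, ← hrho] at h1
    rw [← h1]
    show g z ∈ PrimeSpectrum.basicOpen c
    rw [← hp]
    exact (PrimeSpectrum.mem_basicOpen c p).mpr hcz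
  refine ⟨V.left.basicOpen (rho A V c), le_top, hbo, ?_⟩
  have hu : IsUnit ((V.left.presheaf.map
      (homOfLE (le_top : V.left.basicOpen (rho A V c) ≤ ⊤)).op) (rho A V c)) :=
    V.left.toRingedSpace.isUnit_res_basicOpen (rho A V c)
  have h3 : (V.left.presheaf.map
      (homOfLE (le_top : V.left.basicOpen (rho A V c) ≤ ⊤)).op) (rho A V c) ^ k *
      (V.left.presheaf.map
      (homOfLE (le_top : V.left.basicOpen (rho A V c) ≤ ⊤)).op) b = 0 := by
    rw [← map_pow, ← map_mul, hk, map_zero]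
  rw [(hu.pow k).mul_right_eq_zero] at h3
  rw [h3, map_zero]

end Geo

section Normal

variable (A : Type u) [CommRing A] [IsDomain A] [IsNoetherianRing A] [IsLocalRing A]
  [IsIntegrallyClosed A]

theorem isIso_ι_appTop (hdim : (2 : WithBot ℕ∞) ≤ ringKrullDim A) :
    IsIso (FEt.puncturedSpec A).ι.appTop := by
  have hA := Groth.Agent.Lead.FlatHart.depth_two_of_normal A hdim
  have hb := Groth.Agent.Lib.Helper4.RelHartogs1.hbij_of_depth (Spec (CommRingCat.of A))
    (FEt.puncturedSpec A) (Groth.Agent.Lib.Helper4.FEtHartogs2.depth_spec_local A hA)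
  rw [← Scheme.Opens.opensRange_ι (FEt.puncturedSpec A)] at hb
  exact Groth.Agent.Lib.Helper4.FEtHartogs2.isIso_appTop_of_hbij _ hb

theorem isPullback_toSpecΓ (hdim : (2 : WithBot ℕ∞) ≤ ringKrullDim A)
    (V : FEt.Cat (FEt.puncturedSpec A : Scheme.{u})) :
    IsPullback V.left.toSpecΓ V.hom (Spec.map (CommRingCat.ofHom (rho A V)))
      (FEt.puncturedSpec A).ι := by
  obtain ⟨v, hv⟩ : ∃ v : V.left ⟶ (FEt.puncturedSpec A : Scheme.{u}), v = V.hom := ⟨_, rfl⟩
  haveI : IsFinite v := by
    rw [hv]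
    exact V.prop.1
  haveI : IsIso (FEt.puncturedSpec A).ι.appTop := isIso_ι_appTop A hdim
  haveI : CompactSpace (FEt.puncturedSpec A : Scheme.{u}) :=
    QuasiCompact.compactSpace_of_compactSpace (FEt.puncturedSpec A).ι
  haveI : (FEt.puncturedSpec A : Scheme.{u}).IsQuasiAffine :=
    Scheme.IsQuasiAffine.of_isImmersion (FEt.puncturedSpec A).ι
  have h0 := Scheme.isPullback_toSpecΓ_toSpecΓ v
  obtain ⟨θ, hθdef⟩ : ∃ θ : Spec Γ((FEt.puncturedSpec A : Scheme.{u}), ⊤) ⟶
      Spec (CommRingCat.of A),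
      θ = Spec.map (FEt.puncturedSpec A).ι.appTop ≫
        Spec.map (Scheme.ΓSpecIso (CommRingCat.of A)).inv := ⟨_, rfl⟩
  haveI : IsIso θ := by
    rw [hθdef]
    infer_instance
  have hθ : (FEt.puncturedSpec A : Scheme.{u}).toSpecΓ ≫ θ = (FEt.puncturedSpec A).ι := by
    rw [hθdef, ← Scheme.toSpecΓ_naturality_assoc, toSpecΓ_SpecMap_ΓSpecIso_inv,
      Category.comp_id]
  have hy : Spec.map v.appTop ≫ θ = Spec.map (CommRingCat.ofHom (rho A V)) := by
    rw [hθdef, ← specMap_rho, hv, ← Spec.map_comp, ← Spec.map_comp, Scheme.Hom.comp_appTop,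
      Category.assoc]
  have h1 : IsPullback v V.left.toSpecΓ
      (FEt.puncturedSpec A).ι (Spec.map (CommRingCat.ofHom (rho A V))) :=
    IsPullback.of_iso h0 (Iso.refl _) (Iso.refl _) (Iso.refl _) (asIso θ)
      (by simp) (by simp)
      (by rw [asIso_hom, Iso.refl_hom, Category.id_comp]; exact hθ)
      (by rw [asIso_hom, Iso.refl_hom, Category.id_comp]; exact hy)
  rw [hv] at h1
  exact h1.flip

theorem finite_etale_away (hdim : (2 : WithBot ℕ∞) ≤ ringKrullDim A)
    (V : FEt.Cat (FEt.puncturedSpec A : Scheme.{u})) (c : A) (hc : c ∈ maximalIdeal A) :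
    letI : Algebra A Γ(V.left, ⊤) := (rho A V).toAlgebra
    Module.Finite (Localization.Away c) (Localization.Away c ⊗[A] Γ(V.left, ⊤)) ∧
      Algebra.Etale (Localization.Away c) (Localization.Away c ⊗[A] Γ(V.left, ⊤)) := by
  letI : Algebra A Γ(V.left, ⊤) := (rho A V).toAlgebra
  haveI : IsFinite (V.hom : V.left ⟶ (FEt.puncturedSpec A : Scheme.{u})) := V.prop.1
  haveI : Etale (V.hom : V.left ⟶ (FEt.puncturedSpec A : Scheme.{u})) := V.prop.2
  have hpb := isPullback_toSpecΓ A hdim V
  obtain ⟨k, hk⟩ : ∃ k : Spec (CommRingCat.of (Localization.Away c)) ⟶ Spec (CommRingCat.of A),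
      k = Spec.map (CommRingCat.ofHom (algebraMap A (Localization.Away c))) := ⟨_, rfl⟩
  haveI : IsOpenImmersion k := by
    rw [hk]
    exact IsOpenImmersion.of_isLocalization c
  have hrange : Set.range k ⊆ Set.range (FEt.puncturedSpec A).ι := by
    rw [Scheme.Opens.range_ι]
    intro x hx
    rw [hk] at hx
    have h2 : x ∈ (PrimeSpectrum.basicOpen c : (Spec (CommRingCat.of A)).Opens) := by
      have e := Scheme.Hom.opensRange_localizationAway (R := CommRingCat.of A) c
      rw [← e]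
      exact hx
    intro hxc
    have h3 : x = IsLocalRing.closedPoint A := hxc
    rw [h3] at h2
    exact (PrimeSpectrum.mem_basicOpen c (IsLocalRing.closedPoint A)).mp h2 hc
  obtain ⟨j, hj⟩ : ∃ j : Spec (CommRingCat.of (Localization.Away c)) ⟶
      (FEt.puncturedSpec A : Scheme.{u}), j ≫ (FEt.puncturedSpec A).ι = k :=
    ⟨IsOpenImmersion.lift (FEt.puncturedSpec A).ι k hrange, IsOpenImmersion.lift_fac _ _ _⟩
  have big := (IsPullback.of_hasPullback
    (V.hom : V.left ⟶ (FEt.puncturedSpec A : Scheme.{u})) j).paste_horiz hpb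
  rw [hj, hk] at big
  have hy : Spec.map (CommRingCat.ofHom (rho A V)) =
      Spec.map (CommRingCat.ofHom (algebraMap A Γ(V.left, ⊤))) := rfl
  rw [hy] at big
  obtain ⟨ε, hε⟩ : ∃ ε : pullback (V.hom : V.left ⟶ (FEt.puncturedSpec A : Scheme.{u})) j ≅
      Spec (CommRingCat.of (Localization.Away c ⊗[A] Γ(V.left, ⊤))),
      ε.hom ≫ Spec.map (CommRingCat.ofHom (algebraMap (Localization.Away c)
        (Localization.Away c ⊗[A] Γ(V.left, ⊤)))) =
      pullback.snd (V.hom : V.left ⟶ (FEt.puncturedSpec A : Scheme.{u})) j := by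
    refine ⟨big.flip.isoPullback ≪≫ pullbackSpecIso A (Localization.Away c) Γ(V.left, ⊤), ?_⟩
    rw [Iso.trans_hom, Category.assoc, pullbackSpecIso_hom_fst']
    exact big.flip.isoPullback_hom_fst
  have heq : Spec.map (CommRingCat.ofHom (algebraMap (Localization.Away c)
      (Localization.Away c ⊗[A] Γ(V.left, ⊤)))) =
      ε.inv ≫ pullback.snd (V.hom : V.left ⟶ (FEt.puncturedSpec A : Scheme.{u})) j := by
    rw [← hε, Iso.inv_hom_id_assoc]
  have hfinm : IsFinite (Spec.map (CommRingCat.ofHom (algebraMap (Localization.Away c)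
      (Localization.Away c ⊗[A] Γ(V.left, ⊤))))) := by
    rw [heq]
    infer_instance
  have hetm : Etale (Spec.map (CommRingCat.ofHom (algebraMap (Localization.Away c)
      (Localization.Away c ⊗[A] Γ(V.left, ⊤))))) := by
    rw [heq]
    infer_instance
  exact ⟨RingHom.finite_algebraMap.mp ((IsFinite.SpecMap_iff _).mp hfinm),
    RingHom.etale_algebraMap.mp ((HasRingHomProperty.Spec_iff (P := @Etale)).mp hetm)⟩

theorem finite_rho (hdim : (2 : WithBot ℕ∞) ≤ ringKrullDim A)
    (V : FEt.Cat (FEt.puncturedSpec A : Scheme.{u})) : (rho A V).Finite := by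
  letI : Algebra A Γ(V.left, ⊤) := (rho A V).toAlgebra
  have hmain : Module.Finite A Γ(V.left, ⊤) := by
    apply finite_of_locally A Γ(V.left, ⊤) hdim
    · intro b hb
      apply sections_sep A V b
      intro c hc
      obtain ⟨k, hk⟩ := hb c hc
      refine ⟨k, ?_⟩
      rw [Algebra.smul_def, map_pow] at hk
      exact hk
    · intro c hc
      exact (finite_etale_away A hdim V c hc).1
    · intro c hc
      haveI := (finite_etale_away A hdim V c hc).2
      infer_instance
  exact hmain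

theorem exists_extension (hdim : (2 : WithBot ℕ∞) ≤ ringKrullDim A)
    (V : FEt.Cat (FEt.puncturedSpec A : Scheme.{u})) (hfin : (rho A V).Finite)
    (het : (rho A V).Etale) :
    ∃ Y : FEt.Cat (Spec (CommRingCat.of A)),
      Nonempty ((FEt.restrict (FEt.puncturedSpec A).ι).obj Y ≅ V) := by
  letI : Algebra A Γ(V.left, ⊤) := (rho A V).toAlgebra
  haveI : Module.Finite A Γ(V.left, ⊤) := hfin
  haveI : Algebra.Etale A Γ(V.left, ⊤) := het
  have hpb := isPullback_toSpecΓ A hdim V
  have hy : Spec.map (CommRingCat.ofHom (rho A V)) =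
      Spec.map (CommRingCat.ofHom (algebraMap A Γ(V.left, ⊤))) := rfl
  rw [hy] at hpb
  have j : V ≅ (FEt.restrict (FEt.puncturedSpec A).ι).obj
      (Groth.Agent.Helper7.FEtAff.ofAlg A Γ(V.left, ⊤)) :=
    MorphismProperty.Over.isoMk hpb.isoPullback hpb.isoPullback_hom_snd
  exact ⟨_, ⟨j.symm⟩⟩

theorem main (hdim : (2 : WithBot ℕ∞) ≤ ringKrullDim A)
    (V : FEt.Cat (FEt.puncturedSpec A : Scheme.{u})) :
    (rho A V).Finite ∧
    ((∃ Y : FEt.Cat (Spec (CommRingCat.of A)),
      Nonempty ((FEt.restrict (FEt.puncturedSpec A).ι).obj Y ≅ V)) ↔ (rho A V).Etale) := by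
  have hfin := finite_rho A hdim V
  refine ⟨hfin, ⟨fun hV => ?_, fun het => exists_extension A hdim V hfin het⟩⟩
  have hA := Groth.Agent.Lead.FlatHart.depth_two_of_normal A hdim
  exact (Groth.Agent.Lib.Helper4.FEtHartogs2.S0263_main A hA V hV).2

end Normal

end Groth.Agent.Helper7.PunctFin
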